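import Mathlib

/-!
# Short presentations of `SL₂(q)`: the commutation lemma and the Bruhat bound

`polyWord u a P` is the word `∏ i, aⁱ u^(P.coeff i) a⁻ⁱ`, a finite substitute for the group element
"`u` moved by the polynomial `P` in the endomorphism `conj a`".
-/

set_option autoImplicit false

namespace Cfsg.Agent.Lib.ShortPresSL2

open Polynomial Subgroup
open scoped IsMulCommutative

section word

variable {G : Type*} [Group G] {p : ℕ} [hp : Fact p.Prime]

/-- The word of a polynomial. -/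
def polyWord (u a : G) (P : (ZMod p)[X]) : G :=
  ((List.range (P.natDegree + 1)).map fun i => a ^ i * u ^ (P.coeff i).val * (a ^ i)⁻¹).prod

theorem map_polyWord {M : Type*} [Group M] (f : G →* M) (u a : G) (P : (ZMod p)[X]) :
    f (polyWord u a P) = polyWord (f u) (f a) P := by
  simp [polyWord, map_list_prod, List.map_map, Function.comp_def]

theorem polyWord_mem {K : Subgroup G} {u a : G} (hu : u ∈ K) (ha : a ∈ K) (P : (ZMod p)[X]) :
    polyWord u a P ∈ K := by
  refine list_prod_mem fun g hg => ?_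
  obtain ⟨i, -, rfl⟩ := List.mem_map.1 hg
  exact K.mul_mem (K.mul_mem (K.pow_mem ha i) (K.pow_mem hu _)) (K.inv_mem (K.pow_mem ha i))

theorem polyWord_one (a : G) (P : (ZMod p)[X]) : polyWord 1 a P = 1 := by
  refine List.prod_eq_one fun g hg => ?_
  obtain ⟨i, -, rfl⟩ := List.mem_map.1 hg
  simp

theorem polyWord_X (u a : G) : polyWord u a (X : (ZMod p)[X]) = a * u * a⁻¹ := by
  have h1 : (1 : ZMod p).val = 1 := by
    haveI : Fact (1 < p) := ⟨hp.out.one_lt⟩
    exact ZMod.val_one p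
  rw [polyWord, natDegree_X]
  simp [List.range_succ, coeff_X, h1]

/-- Any additive map commuting with `conj a` is given by the word. -/
theorem polyWord_eq {R : Type*} [CommRing R] [Algebra (ZMod p) R] (α : R) (f : Multiplicative R →* G)
    {u a : G} (h1 : f (.ofAdd 1) = u) (hα : ∀ r : R, f (.ofAdd (α * r)) = a * f (.ofAdd r) * a⁻¹)
    (P : (ZMod p)[X]) : polyWord u a P = f (.ofAdd (aeval α P)) := by
  have hpow : ∀ i : ℕ, f (.ofAdd (α ^ i)) = a ^ i * u * (a ^ i)⁻¹ := by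
    intro i
    induction i with
    | zero => simp [h1]
    | succ i ih => rw [pow_succ', hα, ih, pow_succ']; group
  rw [aeval_eq_sum_range, polyWord]
  generalize P.natDegree + 1 = n
  induction n with
  | zero => simp
  | succ n ih =>
    rw [List.range_succ, List.map_append, List.prod_append, ih, Finset.sum_range_succ, ofAdd_add,
      map_mul]
    congr 1
    have : P.coeff n • α ^ n = (P.coeff n).val • α ^ n := by
      conv_lhs => rw [← ZMod.natCast_zmod_val (P.coeff n), Nat.cast_smul_eq_nsmul]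
    rw [this, ofAdd_nsmul, map_pow, hpow, conj_pow]
    simp

/-- The commutation lemma: a commuting pair `u`, `a u a⁻¹` spreads to all conjugates by powers of `a`
as soon as something commuting with `a` sends `u` to `u * a u a⁻¹`. -/
theorem commute_conj_pow_of_step {u a b : G} (hab : Commute b a)
    (h1 : Commute u (a * u * a⁻¹)) (hb : b * u * b⁻¹ = u * (a * u * a⁻¹)) :
    ∀ n : ℕ, Commute u (a ^ n * u * (a ^ n)⁻¹) := by
  set v : ℕ → G := fun n => a ^ n * u * (a ^ n)⁻¹ with hv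
  have hshift : ∀ i j : ℕ, Commute u (v j) → Commute (v i) (v (i + j)) := fun i j hj => by
    have h := hj.map (MulAut.conj (a ^ i)).toMonoidHom
    simp only [MulEquiv.coe_toMonoidHom, MulAut.conj_apply, hv] at h ⊢
    rw [pow_add]
    convert h using 1
    group
  intro n
  induction n using Nat.strong_induction_on with
  | _ n ih =>
    match n, ih with
    | 0, _ => simp
    | 1, _ => simpa using h1
    | n + 2, ih =>
      have hn : Commute u (v (n + 1)) := ih _ (by omega)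
      have e1 : Commute (v 1) (v (n + 1)) := by
        simpa [add_comm] using hshift 1 n (ih _ (by omega))
      have e2 : Commute (v 1) (v (n + 2)) := by
        simpa [add_comm, add_left_comm] using hshift 1 (n + 1) (ih _ (by omega))
      have hbv : b * v (n + 1) * b⁻¹ = v (n + 1) * v (n + 2) := by
        calc b * v (n + 1) * b⁻¹ = a ^ (n + 1) * (b * u * b⁻¹) * (a ^ (n + 1))⁻¹ := by
              have hc := hab.pow_right (n + 1)
              simp only [hv]
              rw [← mul_assoc, ← mul_assoc, hc.eq]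
              simp only [mul_assoc, ← mul_inv_rev, hc.eq]
          _ = _ := by simp only [hb, hv, pow_succ]; group
      have h := hn.map (MulAut.conj b).toMonoidHom
      simp only [MulEquiv.coe_toMonoidHom, MulAut.conj_apply] at h
      rw [hb, hbv, show a * u * a⁻¹ = v 1 by simp [hv]] at h
      change u * v (n + 2) = v (n + 2) * u
      have hl : u * v 1 * (v (n + 1) * v (n + 2)) = v (n + 1) * ((u * v (n + 2)) * v 1) := by
        calc u * v 1 * (v (n + 1) * v (n + 2)) = u * (v 1 * v (n + 1)) * v (n + 2) := by group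
          _ = (u * v (n + 1)) * (v 1 * v (n + 2)) := by rw [e1.eq]; group
          _ = _ := by rw [hn.eq, e2.eq]; group
      have hr : v (n + 1) * v (n + 2) * (u * v 1) = v (n + 1) * ((v (n + 2) * u) * v 1) := by group
      exact mul_right_cancel (mul_left_cancel (hl.symm.trans (h.eq.trans hr)))

/-- A monic relation of degree `d` reduces the commutation to the first `d` conjugates. -/
theorem commute_conj_pow_of_relation {u a : G} {f : (ZMod p)[X]} (hf : f.Monic)
    (hrel : polyWord u a f = 1) (h : ∀ i < f.natDegree, Commute u (a ^ i * u * (a ^ i)⁻¹)) :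
    ∀ n : ℕ, Commute u (a ^ n * u * (a ^ n)⁻¹) := by
  have h1p : (1 : ZMod p).val = 1 := by
    haveI : Fact (1 < p) := ⟨hp.out.one_lt⟩
    exact ZMod.val_one p
  set d := f.natDegree with hd
  set S : Set G := {g | ∃ i < d, g = a ^ i * u * (a ^ i)⁻¹} with hS
  set A := closure S with hA
  have hcomm : IsMulCommutative A := by
    refine ⟨⟨fun x y => Subtype.ext ?_⟩⟩
    refine closure_induction₂ (p := fun x y _ _ => x * y = y * x) ?_ (fun _ _ => by simp)
      (fun _ _ => by simp) (fun x y z _ _ _ h1 h2 => (Commute.mul_left h1 h2).eq)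
      (fun x y z _ _ _ h1 h2 => (Commute.mul_right h1 h2).eq)
      (fun x y _ _ h => (Commute.inv_left h).eq) (fun x y _ _ h => (Commute.inv_right h).eq)
      x.2 y.2
    rintro _ _ ⟨i, hi, rfl⟩ ⟨j, hj, rfl⟩
    wlog hij : i ≤ j generalizing i j
    · exact (this j hj i hi (le_of_not_ge hij)).symm
    obtain ⟨k, rfl⟩ := Nat.exists_eq_add_of_le hij
    have h' := (h k (by omega)).map (MulAut.conj (a ^ i)).toMonoidHom
    simp only [MulEquiv.coe_toMonoidHom, MulAut.conj_apply] at h'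
    rw [pow_add]
    convert h'.eq using 2 <;> group
  have hlast : a ^ d * u * (a ^ d)⁻¹ ∈ A := by
    rw [polyWord, List.range_succ, List.map_append, List.prod_append, ← hd] at hrel
    simp only [List.map_singleton, List.prod_singleton, hd, hf.coeff_natDegree, h1p, pow_one] at hrel
    rw [hd, eq_inv_of_mul_eq_one_right hrel]
    refine A.inv_mem (list_prod_mem fun g hg => ?_)
    obtain ⟨i, hi, rfl⟩ := List.mem_map.1 hg
    rw [← conj_pow]
    exact A.pow_mem (subset_closure ⟨i, List.mem_range.1 hi, rfl⟩) _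
  have hinv : ∀ g ∈ A, a * g * a⁻¹ ∈ A := by
    have : A.map (MulAut.conj a).toMonoidHom ≤ A := by
      rw [hA, MonoidHom.map_closure, closure_le]
      rintro _ ⟨_, ⟨i, hi, rfl⟩, rfl⟩
      have e : a * (a ^ i * u * (a ^ i)⁻¹) * a⁻¹ = a ^ (i + 1) * u * (a ^ (i + 1))⁻¹ := by
        rw [pow_succ']; group
      show a * (a ^ i * u * (a ^ i)⁻¹) * a⁻¹ ∈ closure S
      rw [e]
      rcases (Nat.succ_le_of_lt hi).lt_or_eq with hlt | heq
      · exact subset_closure ⟨_, hlt, rfl⟩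
      · rw [← hA, show i + 1 = d from heq]; exact hlast
    exact fun g hg => this ⟨g, hg, rfl⟩
  intro n
  rcases Nat.eq_zero_or_pos d with hd0 | hdpos
  · rw [hd0, pow_zero, one_mul, inv_one, mul_one] at hlast
    have : A = ⊥ := by
      rw [hA, closure_eq_bot_iff]
      rintro g ⟨i, hi, rfl⟩
      omega
    rw [this, mem_bot] at hlast
    simp [hlast]
  have hmem : ∀ n : ℕ, a ^ n * u * (a ^ n)⁻¹ ∈ A := by
    intro n
    induction n with
    | zero => exact subset_closure ⟨0, hdpos, rfl⟩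
    | succ n ih =>
      have := hinv _ ih
      rwa [show a * (a ^ n * u * (a ^ n)⁻¹) * a⁻¹ = a ^ (n + 1) * u * (a ^ (n + 1))⁻¹ by
        rw [pow_succ']; group] at this
  have h0 := hmem 0
  rw [pow_zero, one_mul, inv_one, mul_one] at h0
  exact congrArg Subtype.val (mul_comm' (⟨u, h0⟩ : A) ⟨_, hmem n⟩)

/-- Commuting conjugates of exponent `p` carry an action of the polynomial ring. -/
theorem exists_hom_polynomial {u a : G} (hup : u ^ p = 1)
    (hcomm : ∀ n : ℕ, Commute u (a ^ n * u * (a ^ n)⁻¹)) :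
    ∃ f : Multiplicative (ZMod p)[X] →* G, f (.ofAdd 1) = u ∧
      ∀ r, f (.ofAdd (X * r)) = a * f (.ofAdd r) * a⁻¹ := by
  set S : Set G := {g | ∃ i : ℕ, g = a ^ i * u * (a ^ i)⁻¹} with hS
  set A := closure S with hA
  haveI hc : IsMulCommutative A := by
    refine ⟨⟨fun x y => Subtype.ext ?_⟩⟩
    refine closure_induction₂ (p := fun x y _ _ => x * y = y * x) ?_ (fun _ _ => by simp)
      (fun _ _ => by simp) (fun x y z _ _ _ h1 h2 => (Commute.mul_left h1 h2).eq)
      (fun x y z _ _ _ h1 h2 => (Commute.mul_right h1 h2).eq)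
      (fun x y _ _ h => (Commute.inv_left h).eq) (fun x y _ _ h => (Commute.inv_right h).eq)
      x.2 y.2
    rintro _ _ ⟨i, rfl⟩ ⟨j, rfl⟩
    wlog hij : i ≤ j generalizing i j
    · exact (this j i (le_of_not_ge hij)).symm
    obtain ⟨k, rfl⟩ := Nat.exists_eq_add_of_le hij
    have h' := (hcomm k).map (MulAut.conj (a ^ i)).toMonoidHom
    simp only [MulEquiv.coe_toMonoidHom, MulAut.conj_apply] at h'
    rw [pow_add]
    convert h'.eq using 2 <;> group
  have hexp : ∀ g ∈ A, g ^ p = 1 := by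
    intro g hg
    refine closure_induction (p := fun g _ => g ^ p = 1) ?_ (one_pow p) (fun x y hx hy h1 h2 => ?_)
      (fun x _ h1 => by rw [inv_pow, h1, inv_one]) hg
    · rintro _ ⟨i, rfl⟩
      rw [conj_pow, hup, mul_one, mul_inv_cancel]
    · have hxy : Commute x y := congrArg Subtype.val (mul_comm' (⟨x, hx⟩ : A) ⟨y, hy⟩)
      rw [hxy.mul_pow, h1, h2, mul_one]
  haveI : Module (ZMod p) (Additive A) := AddCommGroup.zmodModule fun x =>
    Additive.toMul.injective (Subtype.ext (hexp _ x.toMul.2))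
  have hinv : A.map (MulAut.conj a).toMonoidHom ≤ A := by
    rw [hA, MonoidHom.map_closure, closure_le]
    rintro _ ⟨_, ⟨i, rfl⟩, rfl⟩
    refine subset_closure ⟨i + 1, ?_⟩
    show a * (a ^ i * u * (a ^ i)⁻¹) * a⁻¹ = _
    rw [pow_succ']; group
  let T0 : A →* A := ((MulAut.conj a).toMonoidHom.comp A.subtype).codRestrict A
    fun x => hinv ⟨x, x.2, rfl⟩
  let T : Module.End (ZMod p) (Additive A) := (MonoidHom.toAdditive T0).toZModLinearMap p
  let u₀ : Additive A := Additive.ofMul ⟨u, subset_closure ⟨0, by simp⟩⟩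
  refine ⟨MonoidHom.mk' (fun r => ((aeval T r.toAdd u₀).toMul : A)) fun r s => ?_, ?_, fun r => ?_⟩
  · simp [toAdd_mul, map_add]
  · simp [u₀]
  · show (((aeval T (X * r) u₀).toMul : A) : G) = _
    rw [map_mul, aeval_X, Module.End.mul_apply]
    rfl

end word

section field

variable {G : Type*} [Group G] {p : ℕ} [hp : Fact p.Prime] {F : Type*} [Field F] [Finite F]
  [Algebra (ZMod p) F]

/-- The relations give a homomorphic image of the additive group of the field, moved as it should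
be by `h`. -/
theorem exists_hom_field {u a h : G} (α c : F)
    (hsurj : Function.Surjective (aeval α : (ZMod p)[X] → F))
    (hup : u ^ p = 1) (hcomm : ∀ n : ℕ, Commute u (a ^ n * u * (a ^ n)⁻¹))
    (hf : polyWord u a (minpoly (ZMod p) α) = 1) (hah : Commute h a)
    {Pc : (ZMod p)[X]} (hPc : aeval α Pc = c) (hc : h * u * h⁻¹ = polyWord u a Pc) :
    ∃ f : Multiplicative F →* G, f (.ofAdd 1) = u ∧
      (∀ P : (ZMod p)[X], polyWord u a P = f (.ofAdd (aeval α P))) ∧
      ∀ x, h * f (.ofAdd x) * h⁻¹ = f (.ofAdd (c * x)) := by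
  obtain ⟨Φ, h1, hX⟩ := exists_hom_polynomial hup hcomm
  have hw : ∀ P : (ZMod p)[X], polyWord u a P = Φ (.ofAdd P) := fun P => by
    rw [polyWord_eq X Φ h1 hX, aeval_X_left_apply]
  have hker : ∀ Q : (ZMod p)[X], Φ (.ofAdd (minpoly (ZMod p) α * Q)) = 1 := by
    intro Q
    let Ψ : Multiplicative (ZMod p)[X] →* G :=
      MonoidHom.mk' (fun r => Φ (.ofAdd (minpoly (ZMod p) α * r.toAdd))) fun r s => by
        simp [toAdd_mul, mul_add, ofAdd_add]
    have := polyWord_eq X Ψ (u := 1) (a := a)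
      (by show Φ (.ofAdd (minpoly (ZMod p) α * 1)) = 1; rw [mul_one, ← hw, hf])
      (fun r => by
        show Φ (.ofAdd (minpoly (ZMod p) α * (X * r))) = a * Φ (.ofAdd (minpoly (ZMod p) α * r)) * a⁻¹
        rw [← hX, mul_left_comm]) Q
    rw [polyWord_one, aeval_X_left_apply] at this
    exact this.symm
  have hwd : ∀ P Q : (ZMod p)[X], aeval α P = aeval α Q → Φ (.ofAdd P) = Φ (.ofAdd Q) := by
    intro P Q hPQ
    obtain ⟨R, hR⟩ := minpoly.dvd (ZMod p) α (p := P - Q) (by rw [map_sub, hPQ, sub_self])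
    rw [show P = Q + minpoly (ZMod p) α * R by rw [← hR]; ring, ofAdd_add, map_mul, hker, mul_one]
  let s := Function.surjInv hsurj
  have hs : ∀ x, aeval α (s x) = x := Function.surjInv_eq hsurj
  let f : Multiplicative F →* G := MonoidHom.mk' (fun x => Φ (.ofAdd (s x.toAdd))) fun x y => by
    rw [← map_mul, ← ofAdd_add]
    exact hwd _ _ (by rw [map_add, hs, hs, hs, toAdd_mul])
  have hfP : ∀ P : (ZMod p)[X], f (.ofAdd (aeval α P)) = Φ (.ofAdd P) := fun P =>
    hwd _ _ (hs _)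
  refine ⟨f, ?_, fun P => by rw [hfP, hw], fun x => ?_⟩
  · rw [← h1, ← hfP 1, aeval_one]
  · obtain ⟨P, rfl⟩ := hsurj x
    let Φ₁ : Multiplicative (ZMod p)[X] →* G := (MulAut.conj h).toMonoidHom.comp Φ
    let Φ₂ : Multiplicative (ZMod p)[X] →* G :=
      MonoidHom.mk' (fun r => Φ (.ofAdd (Pc * r.toAdd))) fun r s => by
        simp [toAdd_mul, mul_add, ofAdd_add]
    have e1 := polyWord_eq X Φ₁ (u := Φ (.ofAdd Pc)) (a := a)
      (by show h * Φ (.ofAdd 1) * h⁻¹ = _; rw [h1, hc, hw])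
      (fun r => by
        show h * Φ (.ofAdd (X * r)) * h⁻¹ = a * (h * Φ (.ofAdd r) * h⁻¹) * a⁻¹
        rw [hX]
        calc h * (a * Φ (.ofAdd r) * a⁻¹) * h⁻¹ = (h * a) * Φ (.ofAdd r) * (h * a)⁻¹ := by group
          _ = _ := by rw [hah.eq]; group) P
    have e2 := polyWord_eq X Φ₂ (u := Φ (.ofAdd Pc)) (a := a)
      (by show Φ (.ofAdd (Pc * 1)) = _; rw [mul_one])
      (fun r => by
        show Φ (.ofAdd (Pc * (X * r))) = a * Φ (.ofAdd (Pc * r)) * a⁻¹
        rw [← hX, mul_left_comm]) P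
    rw [aeval_X_left_apply] at e1 e2
    rw [hfP, ← hPc, ← map_mul, hfP]
    exact e1.symm.trans e2

end field

section bruhat

variable {G : Type*} [Group G] {F : Type*} [Field F] [Finite F]

/-- The Bruhat bound. -/
theorem finite_and_card_le (f : Multiplicative F →* G) {h t : G} (c : F) (hc : c ≠ 0) {N : ℕ}
    (hN : 0 < N) (hh : h ^ N = 1) (hhf : ∀ x, h * f (.ofAdd x) * h⁻¹ = f (.ofAdd (c * x)))
    (hth : t * h * t⁻¹ = h⁻¹) (ht : ∃ j : ℤ, t * t = h ^ j)
    (hgen : closure (Set.range f ∪ {h, t}) = ⊤)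
    (hst : ∀ x : F, x ≠ 0 → ∃ (a b : F) (j : ℤ),
      t * f (.ofAdd x) * t⁻¹ = f (.ofAdd a) * h ^ j * t * f (.ofAdd b)) :
    Finite G ∧ Nat.card G ≤ Nat.card F * N * (Nat.card F + 1) := by
  obtain ⟨j₀, hj₀⟩ := ht
  let B : Set G := {g | ∃ (a : F) (j : ℤ), g = f (.ofAdd a) * h ^ j}
  let C : Set G := {g | ∃ (a b : F) (j : ℤ), g = f (.ofAdd a) * h ^ j * t * f (.ofAdd b)}
  have hhi : ∀ x, h⁻¹ * f (.ofAdd x) * h = f (.ofAdd (c⁻¹ * x)) := fun x => by
    have := hhf (c⁻¹ * x)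
    rw [← mul_assoc, mul_inv_cancel₀ hc, one_mul] at this
    rw [← this]; group
  have hhz : ∀ (j : ℤ) (x : F), ∃ y, h ^ j * f (.ofAdd x) = f (.ofAdd y) * h ^ j := by
    intro j
    induction j with
    | zero => exact fun x => ⟨x, by simp⟩
    | succ i ih =>
      intro x
      obtain ⟨y, hy⟩ := ih (c * x)
      refine ⟨y, ?_⟩
      rw [zpow_add_one, mul_assoc, show h * f (.ofAdd x) = f (.ofAdd (c * x)) * h by
        rw [← hhf]; group, ← mul_assoc, hy, mul_assoc]
    | pred i ih =>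
      intro x
      obtain ⟨y, hy⟩ := ih (c⁻¹ * x)
      refine ⟨y, ?_⟩
      rw [zpow_sub_one, mul_assoc, show h⁻¹ * f (.ofAdd x) = f (.ofAdd (c⁻¹ * x)) * h⁻¹ by
        rw [← hhi]; group, ← mul_assoc, hy, mul_assoc]
  have htz : ∀ j : ℤ, t * h ^ j = h ^ (-j) * t := fun j => by
    have := map_zpow (MulAut.conj t).toMonoidHom h j
    simp only [MulEquiv.coe_toMonoidHom, MulAut.conj_apply, hth, inv_zpow, ← zpow_neg] at this
    rw [← this]; group
  have hmem : ∀ g : G, g ∈ B ∨ g ∈ C := by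
    intro g
    have hr : ∀ g : G, g ∈ B ∨ g ∈ C → ∀ x, g * f (.ofAdd x) ∈ B ∨ g * f (.ofAdd x) ∈ C := by
      rintro g (⟨a, j, rfl⟩ | ⟨a, b, j, rfl⟩) x
      · obtain ⟨y, hy⟩ := hhz j x
        exact Or.inl ⟨a + y, j, by rw [mul_assoc, hy, ofAdd_add, map_mul, mul_assoc]⟩
      · exact Or.inr ⟨a, b + x, j, by rw [mul_assoc, ofAdd_add, map_mul]⟩
    have hrh : ∀ g : G, g ∈ B ∨ g ∈ C → ∀ i : ℤ, g * h ^ i ∈ B ∨ g * h ^ i ∈ C := by
      rintro g (⟨a, j, rfl⟩ | ⟨a, b, j, rfl⟩) i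
      · exact Or.inl ⟨a, j + i, by rw [mul_assoc, zpow_add]⟩
      · obtain ⟨y, hy⟩ := hhz (-i) b
        refine Or.inr ⟨a, y, j - i, ?_⟩
        calc f (.ofAdd a) * h ^ j * t * f (.ofAdd b) * h ^ i
            = f (.ofAdd a) * h ^ j * t * ((h ^ (-i))⁻¹ * (h ^ (-i) * f (.ofAdd b))) * h ^ i := by group
          _ = f (.ofAdd a) * h ^ j * (t * h ^ i) * f (.ofAdd y) := by rw [hy]; group
          _ = _ := by rw [htz, sub_eq_add_neg, zpow_add]; group
    have hrt : ∀ g : G, g ∈ B ∨ g ∈ C → g * t ∈ B ∨ g * t ∈ C := by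
      rintro g (⟨a, j, rfl⟩ | ⟨a, b, j, rfl⟩)
      · exact Or.inr ⟨a, 0, j, by simp⟩
      · rcases eq_or_ne b 0 with rfl | hb
        · refine Or.inl ⟨a, j + j₀, ?_⟩
          rw [ofAdd_zero, map_one, mul_one, mul_assoc, hj₀, mul_assoc, ← zpow_add]
        · obtain ⟨a', b', j', he⟩ := hst b hb
          obtain ⟨y, hy⟩ := hhz j a'
          have h1 : f (.ofAdd (a + y)) * h ^ (j + j') * t * f (.ofAdd b') ∈ B ∨
              f (.ofAdd (a + y)) * h ^ (j + j') * t * f (.ofAdd b') ∈ C := Or.inr ⟨_, _, _, rfl⟩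
          have h2 := hrh _ h1 j₀
          convert h2 using 2 <;>
          · calc f (.ofAdd a) * h ^ j * t * f (.ofAdd b) * t
                = f (.ofAdd a) * h ^ j * (t * f (.ofAdd b) * t⁻¹) * (t * t) := by group
              _ = f (.ofAdd a) * (h ^ j * f (.ofAdd a')) * h ^ j' * t * f (.ofAdd b') * h ^ j₀ := by
                rw [he, hj₀]; group
              _ = _ := by rw [hy, ofAdd_add, map_mul, zpow_add]; group
    refine closure_induction_right (p := fun g _ => g ∈ B ∨ g ∈ C) (Or.inl ⟨0, 0, by simp⟩)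
      (fun x _ y hy hx => ?_) (fun x _ y hy hx => ?_) (hgen ▸ mem_top g)
    · rcases hy with ⟨z, rfl⟩ | rfl | rfl
      · simpa using hr x hx z.toAdd
      · simpa using hrh x hx 1
      · exact hrt x hx
    · rcases hy with ⟨z, rfl⟩ | rfl | rfl
      · simpa [map_inv] using hr x hx (-z.toAdd)
      · simpa using hrh x hx (-1)
      · have h1 := hrt _ (hrh x hx (j₀))
        have e : x * h ^ j₀ * y = x * y⁻¹ * (y * y * y * y) := by
          rw [← hj₀]; group
        have h2 := hrh _ h1 (-(2 * j₀))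
        convert h2 using 2 <;>
        · rw [e, show y * y * y * y = y * y * (y * y) by group, hj₀, ← zpow_add, mul_assoc,
            ← zpow_add, show j₀ + j₀ + -(2 * j₀) = (0 : ℤ) by ring, zpow_zero, mul_one]
  haveI : NeZero N := ⟨hN.ne'⟩
  have hmod : ∀ j : ℤ, ∃ i : Fin N, h ^ j = h ^ (i : ℕ) := fun j => by
    have h0 : 0 ≤ j % (N : ℤ) := Int.emod_nonneg _ (by exact_mod_cast hN.ne')
    have h1 : j % (N : ℤ) < N := Int.emod_lt_of_pos _ (by exact_mod_cast hN)
    refine ⟨⟨(j % (N : ℤ)).toNat, by omega⟩, ?_⟩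
    conv_lhs => rw [← Int.mul_ediv_add_emod j N, zpow_add, zpow_mul, zpow_natCast, hh, one_zpow,
      one_mul, ← Int.toNat_of_nonneg h0, zpow_natCast]
  let e : (F × Fin N) ⊕ (F × Fin N × F) → G :=
    Sum.elim (fun x => f (.ofAdd x.1) * h ^ (x.2 : ℕ))
      (fun x => f (.ofAdd x.1) * h ^ (x.2.1 : ℕ) * t * f (.ofAdd x.2.2))
  have he : Function.Surjective e := by
    intro g
    rcases hmem g with ⟨a, j, rfl⟩ | ⟨a, b, j, rfl⟩
    · obtain ⟨i, hi⟩ := hmod j
      exact ⟨.inl (a, i), by simp [e, hi]⟩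
    · obtain ⟨i, hi⟩ := hmod j
      exact ⟨.inr (a, i, b), by simp [e, hi]⟩
  refine ⟨Finite.of_surjective e he, (Nat.card_le_card_of_surjective e he).trans (le_of_eq ?_)⟩
  rw [Nat.card_sum, Nat.card_prod, Nat.card_prod, Nat.card_prod, Nat.card_fin]
  ring

/-- Propagating two Bruhat relations along the torus. -/
theorem steinberg_of_two (f : Multiplicative F →* G) {h t : G} (ω : Fˣ)
    (hω : ∀ x : Fˣ, ∃ k : ℕ, ω ^ k = x) (hhf : ∀ x, h * f (.ofAdd x) * h⁻¹ = f (.ofAdd ((ω : F) ^ 2 * x)))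
    (hth : t * h * t⁻¹ = h⁻¹) {m : ℕ} (hm : Odd m)
    (h0 : ∃ (a b : F) (j : ℤ), t * f (.ofAdd 1) * t⁻¹ = f (.ofAdd a) * h ^ j * t * f (.ofAdd b))
    (h1 : ∃ (a b : F) (j : ℤ),
      t * f (.ofAdd ((ω : F) ^ m)) * t⁻¹ = f (.ofAdd a) * h ^ j * t * f (.ofAdd b)) :
    ∀ x : F, x ≠ 0 → ∃ (a b : F) (j : ℤ),
      t * f (.ofAdd x) * t⁻¹ = f (.ofAdd a) * h ^ j * t * f (.ofAdd b) := by
  have hth' : t * h = h⁻¹ * t := by rw [← hth]; group
  have hth'' : t * h⁻¹ = h * t := by
    calc t * h⁻¹ = h * (h⁻¹ * t) * h⁻¹ := by group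
      _ = h * t := by rw [← hth']; group
  have hhi : ∀ x, h⁻¹ * f (.ofAdd x) * h = f (.ofAdd (((ω : F) ^ 2)⁻¹ * x)) := fun x => by
    have := hhf (((ω : F) ^ 2)⁻¹ * x)
    rw [← mul_assoc, mul_inv_cancel₀ (pow_ne_zero 2 ω.ne_zero), one_mul] at this
    rw [← this]; group
  have step : ∀ (x : F), (∃ (a b : F) (j : ℤ),
      t * f (.ofAdd x) * t⁻¹ = f (.ofAdd a) * h ^ j * t * f (.ofAdd b)) →
      ∃ (a b : F) (j : ℤ),
        t * f (.ofAdd ((ω : F) ^ 2 * x)) * t⁻¹ = f (.ofAdd a) * h ^ j * t * f (.ofAdd b) := by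
    rintro x ⟨a, b, j, he⟩
    refine ⟨((ω : F) ^ 2)⁻¹ * a, ((ω : F) ^ 2)⁻¹ * b, j - 2, ?_⟩
    have e : t * (h * f (.ofAdd x) * h⁻¹) * t⁻¹ = h⁻¹ * (t * f (.ofAdd x) * t⁻¹) * h := by
      calc t * (h * f (.ofAdd x) * h⁻¹) * t⁻¹ = (t * h) * f (.ofAdd x) * (t * h)⁻¹ := by group
        _ = _ := by rw [hth']; group
    rw [← hhf, e, he, ← hhi, ← hhi]
    calc h⁻¹ * (f (.ofAdd a) * h ^ j * t * f (.ofAdd b)) * h
        = (h⁻¹ * f (.ofAdd a) * h) * h⁻¹ * h ^ j * (t * h) * (h⁻¹ * f (.ofAdd b) * h) := by group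
      _ = _ := by rw [hth']; group
  intro x hx
  obtain ⟨k, hk⟩ := hω (Units.mk0 x hx)
  have hk' : (ω : F) ^ k = x := by rw [← Units.val_pow_eq_pow_val, hk, Units.val_mk0]
  obtain ⟨M, hM⟩ : ∃ M, 0 < M ∧ ω ^ M = 1 := ⟨orderOf ω, orderOf_pos ω, pow_orderOf_eq_one ω⟩
  have hiter : ∀ (i : ℕ) (x : F), (∃ (a b : F) (j : ℤ),
      t * f (.ofAdd x) * t⁻¹ = f (.ofAdd a) * h ^ j * t * f (.ofAdd b)) →
      ∃ (a b : F) (j : ℤ),
        t * f (.ofAdd (((ω : F) ^ 2) ^ i * x)) * t⁻¹ = f (.ofAdd a) * h ^ j * t * f (.ofAdd b) := by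
    intro i
    induction i with
    | zero => intro x hx; simpa using hx
    | succ i ih =>
      intro x hx
      rw [show ((ω : F) ^ 2) ^ (i + 1) * x = (ω : F) ^ 2 * (((ω : F) ^ 2) ^ i * x) by ring]
      exact step _ (ih x hx)
  rcases Nat.even_or_odd k with ⟨i, rfl⟩ | hodd
  · obtain ⟨a, b, j, he⟩ := hiter i 1 h0
    exact ⟨a, b, j, by rw [← hk', show (ω : F) ^ (i + i) = ((ω : F) ^ 2) ^ i * 1 by
      rw [mul_one, ← pow_mul]; congr 1; ring]; exact he⟩
  · obtain ⟨m', rfl⟩ := hm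
    obtain ⟨k', rfl⟩ := hodd
    obtain ⟨a, b, j, he⟩ := hiter (k' + m' * (2 * M - 1)) _ h1
    refine ⟨a, b, j, ?_⟩
    rw [← hk', show (ω : F) ^ (2 * k' + 1) =
      ((ω : F) ^ 2) ^ (k' + m' * (2 * M - 1)) * (ω : F) ^ (2 * m' + 1) from ?_]
    · exact he
    conv_rhs => rw [← pow_mul, ← pow_add]
    have : 2 * (k' + m' * (2 * M - 1)) + (2 * m' + 1) = 2 * k' + 1 + M * (4 * m') := by
      obtain ⟨M', rfl⟩ : ∃ M', M = M' + 1 := ⟨M - 1, by omega⟩
      rw [show 2 * (M' + 1) - 1 = 2 * M' + 1 by omega]; ring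
    rw [this, pow_add _ (2 * k' + 1) (M * (4 * m')), pow_mul _ M (4 * m'), ← Units.val_pow_eq_pow_val ω M, hM.2, Units.val_one, one_pow, mul_one]

end bruhat

end Cfsg.Agent.Lib.ShortPresSL2
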