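import Mathlib

/-!
# Field choices for the short presentations of `SL₂(q)`
-/

set_option autoImplicit false

namespace Cfsg.Agent.Lib.ShortPresSL2

open Polynomial
open scoped IntermediateField

variable {F : Type*} [Field F] [Fintype F] {p : ℕ} [hp : Fact p.Prime] [Algebra (ZMod p) F]

omit hp in
theorem card_pow_eq_self_le {m : ℕ} (hm : 1 < m) [DecidableEq F] :
    (Finset.univ.filter fun x : F => x ^ m = x).card ≤ m := by
  have hne : (X ^ m - X : F[X]) ≠ 0 := FiniteField.X_pow_card_sub_X_ne_zero F hm
  refine le_trans ?_ (le_trans (card_roots' (X ^ m - X : F[X]))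
    (le_of_eq (FiniteField.X_pow_card_sub_X_natDegree_eq F hm)))
  refine le_trans (Finset.card_le_card fun x hx => ?_) (Multiset.toFinset_card_le _)
  rw [Multiset.mem_toFinset, mem_roots hne]
  simp [(Finset.mem_filter.1 hx).2]

theorem surjective_aeval_of_finrank (α : F) {e : ℕ} (he : Fintype.card F = p ^ e)
    (h : ∀ d, 1 ≤ d → 2 * d ≤ e → α ^ p ^ d ≠ α) :
    Function.Surjective (aeval α : (ZMod p)[X] → F) := by
  have hint : IsIntegral (ZMod p) α := Algebra.IsIntegral.isIntegral α
  have hc : ∀ (V : Type _) [AddCommGroup V] [Module (ZMod p) V] [Fintype V],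
      Fintype.card V = p ^ Module.finrank (ZMod p) V := fun V _ _ _ => by
    rw [Module.card_eq_pow_finrank (K := ZMod p) (V := V), ZMod.card]
  set K := (ZMod p)⟮α⟯ with hK
  haveI : Fintype K := Fintype.ofFinite _
  have hefin : Module.finrank (ZMod p) F = e :=
    Nat.pow_right_injective hp.out.two_le ((hc F).symm.trans he)
  have hmul : Module.finrank (ZMod p) K * Module.finrank K F = e :=
    (Module.finrank_mul_finrank _ _ _).trans hefin
  have htop : K = ⊤ := by
    by_contra hne
    have hd1 : 1 ≤ Module.finrank (ZMod p) K := Module.finrank_pos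
    have h2 : 2 ≤ Module.finrank K F := by
      by_contra h2
      have h3 : Module.finrank K F = 1 := by
        have : 0 < Module.finrank K F := Module.finrank_pos
        omega
      exact hne (IntermediateField.finrank_eq_one_iff_eq_top.1 h3)
    refine h _ hd1 (by rw [← hmul]; nlinarith) ?_
    have h4 := FiniteField.pow_card (⟨α, IntermediateField.mem_adjoin_simple_self _ α⟩ : K)
    rw [hc K] at h4
    exact congrArg Subtype.val h4
  intro x
  have hx : x ∈ (Algebra.adjoin (ZMod p) {α} : Subalgebra (ZMod p) F) := by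
    rw [← IntermediateField.adjoin_simple_toSubalgebra_of_isAlgebraic hint.isAlgebraic, ← hK, htop]
    trivial
  rw [Algebra.adjoin_singleton_eq_range_aeval] at hx
  exact hx

theorem sum_pow_le (hp3 : 3 ≤ p) : ∀ m : ℕ,
    2 * ∑ d ∈ Finset.Icc 1 m, p ^ d ≤ 3 * p ^ m := by
  intro m
  induction m with
  | zero => simp
  | succ m ih =>
    rw [Finset.sum_Icc_succ_top (by omega : 1 ≤ m + 1), pow_succ]
    nlinarith [Nat.pow_pos (n := m) (show 0 < p by omega)]

/-- For `e ≥ 3` and `p` odd a square `x²` generating the field such that `1 + x²` is a square. -/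
theorem exists_square_step (hp2 : p ≠ 2) {e : ℕ} (he : Fintype.card F = p ^ e) (he3 : 3 ≤ e) :
    ∃ x y : F, x ≠ 0 ∧ y ≠ 0 ∧ 1 + x ^ 2 = y ^ 2 ∧
      Function.Surjective (aeval (x ^ 2) : (ZMod p)[X] → F) := by
  classical
  have hp3 : 3 ≤ p := by have := hp.out.two_le; omega
  haveI : CharP F p := charP_of_injective_algebraMap (algebraMap (ZMod p) F).injective p
  have h2 : (2 : F) ≠ 0 := by
    intro h
    exact hp2 ((Nat.prime_dvd_prime_iff_eq hp.out Nat.prime_two).1
      ((CharP.cast_eq_zero_iff F p 2).1 (by exact_mod_cast h)))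
  set m := e / 2 with hm
  set bad : Finset F := (Finset.Icc 1 m).biUnion fun d => Finset.univ.filter fun x => x ^ p ^ d = x
    with hbad
  have hbadcard : bad.card ≤ ∑ d ∈ Finset.Icc 1 m, p ^ d :=
    Finset.card_biUnion_le.trans (Finset.sum_le_sum fun d hd => card_pow_eq_self_le
      (Nat.one_lt_pow (by simp at hd; omega) hp.out.one_lt))
  set good : Finset F := Finset.univ.filter fun s => s ≠ 0 ∧ s ^ 4 ≠ 1 with hgood
  have hgoodcard : p ^ e ≤ good.card + 5 := by
    have hb : (Finset.univ.filter fun s : F => s = 0 ∨ s ^ 4 = 1).card ≤ 5 := by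
      have h4 : (Finset.univ.filter fun s : F => s ^ 4 = 1).card ≤ 4 := by
        refine le_trans (Finset.card_le_card fun s hs => ?_)
          ((Multiset.toFinset_card_le _).trans (card_nthRoots 4 (1 : F)))
        rw [Multiset.mem_toFinset, mem_nthRoots (by norm_num)]
        exact (Finset.mem_filter.1 hs).2
      refine le_trans (Finset.card_le_card (t := {0} ∪ Finset.univ.filter fun s : F => s ^ 4 = 1)
        fun s hs => ?_) ((Finset.card_union_le _ _).trans (by rw [Finset.card_singleton]; omega))
      rcases (Finset.mem_filter.1 hs).2 with rfl | h <;> simp [*]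
    have := Finset.card_filter_add_card_filter_not (s := (Finset.univ : Finset F))
      (fun s : F => s = 0 ∨ s ^ 4 = 1)
    have heq : (Finset.univ.filter fun s : F => ¬(s = 0 ∨ s ^ 4 = 1)) = good := by
      rw [hgood]; exact Finset.filter_congr fun s _ => by tauto
    rw [heq, Finset.card_univ, he] at this
    omega
  set a : F → F := fun s => ((s - s⁻¹) / 2) ^ 2 with ha
  have hex : ∃ s ∈ good, a s ∉ bad := by
    by_contra hcon
    push Not at hcon
    have hle : good.card ≤ 4 * (good.image a).card := by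
      refine Finset.card_le_mul_card_image good 4 fun b _ => ?_
      set P : F[X] := X ^ 4 - C (2 + 4 * b) * X ^ 2 + 1 with hP
      have hdeg : P.natDegree ≤ 4 := by rw [hP]; compute_degree
      have hne : P ≠ 0 := fun h0 => by
        have := congrArg (fun Q : F[X] => Q.eval 0) h0
        simp [hP] at this
      refine le_trans (Finset.card_le_card fun s hs => ?_)
        ((Multiset.toFinset_card_le _).trans ((card_roots' P).trans hdeg))
      obtain ⟨hs1, hs2⟩ := Finset.mem_filter.1 hs
      have hs0 : s ≠ 0 := ((Finset.mem_filter.1 hs1).2).1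
      rw [Multiset.mem_toFinset, mem_roots hne]
      simp only [hP, IsRoot, eval_add, eval_sub, eval_mul, eval_pow, eval_C, eval_X, eval_one]
      rw [← hs2, ha]
      field_simp
      ring
    have hsub : good.image a ⊆ bad := fun b hb => by
      obtain ⟨s, hs, rfl⟩ := Finset.mem_image.1 hb
      exact hcon s hs
    have h1 := Finset.card_le_card hsub
    have h2' := sum_pow_le (p := p) hp3 m
    have h9 : 9 * p ^ m ≤ p ^ e := by
      calc 9 * p ^ m ≤ p ^ 2 * p ^ m := Nat.mul_le_mul_right _ (by nlinarith)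
        _ = p ^ (2 + m) := (pow_add _ _ _).symm
        _ ≤ p ^ e := Nat.pow_le_pow_right hp.out.pos (by omega)
    have : 3 ≤ p ^ m := hp3.trans (Nat.le_self_pow (by omega) p)
    omega
  obtain ⟨s, hs, hsbad⟩ := hex
  obtain ⟨hs0, hs4⟩ := (Finset.mem_filter.1 hs).2
  refine ⟨(s - s⁻¹) / 2, (s + s⁻¹) / 2, ?_, ?_, ?_, surjective_aeval_of_finrank _ he fun d h1 hd hc => ?_⟩
  · intro h
    rw [div_eq_zero_iff, or_iff_left h2, sub_eq_zero] at h
    exact hs4 (by rw [show s ^ 4 = (s * s) ^ 2 by ring]; nth_rewrite 2 [h]; simp [hs0])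
  · intro h
    rw [div_eq_zero_iff, or_iff_left h2, add_eq_zero_iff_eq_neg] at h
    exact hs4 (by rw [show s ^ 4 = (s * s) ^ 2 by ring]; nth_rewrite 2 [h]; simp [hs0])
  · have h4 : (4 : F) ≠ 0 := by rw [show (4 : F) = 2 * 2 by norm_num]; exact mul_ne_zero h2 h2
    field_simp
    ring
  · exact hsbad (Finset.mem_biUnion.2 ⟨d, Finset.mem_Icc.2 ⟨h1, by omega⟩, Finset.mem_filter.2 ⟨Finset.mem_univ _, hc⟩⟩)

end Cfsg.Agent.Lib.ShortPresSL2
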