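import Mathlib
import Cfsg.Agent.Lib.Linear.Order
import Cfsg.Agent.Lib.ShortPresSL2.Core
import Cfsg.Agent.Lib.ShortPresSL2.Field

/-!
# `SL₂(q)` and `PSL₂(q)` on three generators with at most nine relations
-/

set_option autoImplicit false

namespace Cfsg.Agent.Lib.ShortPresSL2

open Polynomial Subgroup Matrix

variable {F : Type*} [Field F]

local notation "SL" => Matrix.SpecialLinearGroup (Fin 2) F

/-- Upper transvections. -/
def matU (x : F) : SL := ⟨!![1, x; 0, 1], by simp [Matrix.det_fin_two_of]⟩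

/-- Diagonal elements. -/
def matD (l : Fˣ) : SL := ⟨!![(l : F), 0; 0, (l⁻¹ : Fˣ)], by simp [Matrix.det_fin_two_of]⟩

/-- The Weyl element. -/
def matT : SL := ⟨!![0, 1; -1, 0], by simp [Matrix.det_fin_two_of]⟩

theorem matU_add (x y : F) : matU (x + y) = matU x * matU y := by
  refine Subtype.ext ?_
  simp only [Matrix.SpecialLinearGroup.coe_mul]
  simp [matU, add_comm]

theorem matU_zero : (matU 0 : SL) = 1 := by
  refine Subtype.ext ?_
  simp [matU, Matrix.one_fin_two]

/-- The transvections as a homomorphism. -/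
def homU : Multiplicative F →* SL := MonoidHom.mk' (fun x => matU x.toAdd) fun x y => matU_add _ _

theorem homU_ofAdd (x : F) : homU (Multiplicative.ofAdd x) = matU x := rfl

theorem matD_mul (l m : Fˣ) : matD (l * m) = matD l * matD m := by
  refine Subtype.ext ?_
  simp only [Matrix.SpecialLinearGroup.coe_mul]
  simp [matD, mul_comm]

theorem matD_one : (matD 1 : SL) = 1 := by
  refine Subtype.ext ?_
  simp [matD, Matrix.one_fin_two]

theorem matD_pow (l : Fˣ) (k : ℕ) : matD l ^ k = matD (l ^ k) := by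
  induction k with
  | zero => simp [matD_one]
  | succ k ih => rw [pow_succ, ih, ← matD_mul, ← pow_succ]

theorem matD_inv (l : Fˣ) : (matD l)⁻¹ = matD l⁻¹ :=
  inv_eq_of_mul_eq_one_right (by rw [← matD_mul, mul_inv_cancel, matD_one])

theorem matD_conj (l : Fˣ) (x : F) : matD l * matU x * (matD l)⁻¹ = matU ((l : F) ^ 2 * x) := by
  rw [matD_inv]
  refine Subtype.ext ?_
  simp only [Matrix.SpecialLinearGroup.coe_mul]
  simp [matD, matU, Units.val_inv_eq_inv_val]
  ring

theorem matD_inv_conj (l : Fˣ) (x : F) :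
    (matD l)⁻¹ * matU x * matD l = matU (((l⁻¹ : Fˣ) : F) ^ 2 * x) := by
  conv_lhs => rw [matD_inv, show matD l = (matD l⁻¹)⁻¹ by rw [matD_inv, inv_inv]]
  exact matD_conj l⁻¹ x

theorem matT_conj_matD (l : Fˣ) : matT * matD l * matT⁻¹ = (matD l)⁻¹ := by
  rw [mul_inv_eq_iff_eq_mul, matD_inv]
  refine Subtype.ext ?_
  simp only [Matrix.SpecialLinearGroup.coe_mul]
  simp [matT, matD]

theorem matT_sq : (matT * matT : SL) = matD (-1) := by
  refine Subtype.ext ?_
  simp only [Matrix.SpecialLinearGroup.coe_mul]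
  simp [matT, matD]

theorem matT_conj_matU (x : Fˣ) :
    matT * matU (x : F) * matT⁻¹ =
      matU (-(x : F)⁻¹) * matD x⁻¹ * matT * matU (-(x : F)⁻¹) := by
  rw [mul_inv_eq_iff_eq_mul]
  refine Subtype.ext ?_
  simp only [Matrix.SpecialLinearGroup.coe_mul]
  simp [matT, matD, matU, Units.val_inv_eq_inv_val]

/-- An element with nonzero lower left entry lies in the big cell; the others are upper triangular. -/
theorem mem_of_gens {K : Subgroup SL} (hU : ∀ x, matU x ∈ K) (hD : ∀ l, matD l ∈ K)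
    (hT : matT ∈ K) (g : SL) : g ∈ K := by
  obtain ⟨M, hM⟩ := g
  obtain ⟨a, b, c, d, rfl⟩ : ∃ a b c d, M = !![a, b; c, d] := ⟨_, _, _, _, Matrix.eta_fin_two M⟩
  rw [Matrix.det_fin_two_of] at hM
  by_cases hc : c = 0
  · subst hc
    have ha : a ≠ 0 := fun h => by simp [h] at hM
    have hd : d = a⁻¹ := eq_inv_of_mul_eq_one_right (by simpa using hM)
    suffices h : (⟨!![a, b; 0, d], by rw [Matrix.det_fin_two_of]; simpa using hM⟩ : SL) = matD (Units.mk0 a ha) * matU (a⁻¹ * b) by
      exact h ▸ K.mul_mem (hD (Units.mk0 a ha)) (hU (a⁻¹ * b))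
    refine Subtype.ext ?_
    simp only [Matrix.SpecialLinearGroup.coe_mul]
    simp [matD, matU, hd, ha]
  · have h1 : (Units.mk0 (-c) (neg_ne_zero.2 hc))⁻¹ = Units.mk0 (-c)⁻¹ (by simp [hc]) :=
      Units.ext (by simp)
    suffices h : (⟨!![a, b; c, d], by rw [Matrix.det_fin_two_of]; exact hM⟩ : SL) =
        matU (a * c⁻¹) * matD (Units.mk0 (-c) (neg_ne_zero.2 hc))⁻¹ * matT * matU (d * c⁻¹) by
      exact h ▸ K.mul_mem (K.mul_mem (K.mul_mem (hU (a * c⁻¹))
        (hD (Units.mk0 (-c) (neg_ne_zero.2 hc))⁻¹)) hT) (hU (d * c⁻¹))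
    refine Subtype.ext ?_
    show !![a, b; c, d] = (matU (a * c⁻¹)).1 * (matD (Units.mk0 (-c) (neg_ne_zero.2 hc))⁻¹).1 *
      (matT : SL).1 * (matU (d * c⁻¹)).1
    simp [matD, matU, matT, Units.val_inv_eq_inv_val, hc]
    field_simp
    exact ⟨by linear_combination -hM, trivial⟩

variable [Fintype F]

theorem closure_eq_top {ω : Fˣ} (hω : ∀ x : Fˣ, ∃ k : ℕ, ω ^ k = x) {p : ℕ} [Fact p.Prime]
    [Algebra (ZMod p) F] (k : ℕ)
    (hsurj : Function.Surjective (aeval (((ω : F) ^ 2) ^ k) : (ZMod p)[X] → F)) :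
    closure ({matU 1, matD ω, matT} : Set SL) = ⊤ := by
  set K := closure ({matU 1, matD ω, matT} : Set SL) with hK
  refine eq_top_iff.2 fun g _ => mem_of_gens (fun x => ?_) (fun l => ?_) (subset_closure (by simp)) g
  · obtain ⟨P, rfl⟩ := hsurj x
    rw [← homU_ofAdd (aeval (((ω : F) ^ 2) ^ k) P), ← polyWord_eq (((ω : F) ^ 2) ^ k) homU (u := matU 1) (a := matD ω ^ k) rfl
      (fun r => by
        rw [homU_ofAdd, homU_ofAdd, matD_pow, matD_conj, Units.val_pow_eq_pow_val]
        congr 1
        ring)]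
    exact polyWord_mem (subset_closure (by simp)) (K.pow_mem (subset_closure (by simp)) k) P
  · obtain ⟨i, rfl⟩ := hω l
    rw [← matD_pow]
    exact K.pow_mem (subset_closure (by simp)) i

/-- A finite presented group of order at most that of a quotient it maps onto. -/
theorem presented_equiv {M : Type*} [Group M] [Finite M] {rels : Set (FreeGroup (Fin 3))}
    (g : Fin 3 → M) (hrel : ∀ r ∈ rels, FreeGroup.lift g r = 1)
    (hgen : closure ({g 0, g 1, g 2} : Set M) = ⊤)
    (hfin : Finite (PresentedGroup rels) ∧ Nat.card (PresentedGroup rels) ≤ Nat.card M) :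
    Nonempty (PresentedGroup rels ≃* M) := by
  haveI := hfin.1
  let φ := PresentedGroup.toGroup hrel
  have hs : Function.Surjective φ := by
    rw [← MonoidHom.range_eq_top, eq_top_iff, ← hgen, closure_le]
    have : ∀ i, g i ∈ φ.range := fun i => ⟨PresentedGroup.of i, PresentedGroup.toGroup.of hrel⟩
    rintro x (rfl | rfl | rfl) <;> exact this _
  exact ⟨MulEquiv.ofBijective φ ((Nat.bijective_iff_surjective_and_card φ).2
    ⟨hs, le_antisymm hfin.2 (Nat.card_le_card_of_surjective φ hs)⟩)⟩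

/-- The image of a generator. -/
theorem mk_of (rels : Set (FreeGroup (Fin 3))) (i : Fin 3) :
    PresentedGroup.mk rels (FreeGroup.of i) = PresentedGroup.of i := rfl

theorem gen_range {rels : Set (FreeGroup (Fin 3))} (f : Multiplicative F →* PresentedGroup rels)
    (hf1 : f (Multiplicative.ofAdd 1) = PresentedGroup.of 0) :
    closure (Set.range f ∪ {PresentedGroup.of 1, PresentedGroup.of 2}) = ⊤ := by
  rw [eq_top_iff, ← PresentedGroup.closure_range_of rels]
  refine closure_mono ?_
  rintro _ ⟨i, rfl⟩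
  fin_cases i
  · exact Or.inl ⟨_, hf1⟩
  · exact Or.inr (Or.inl rfl)
  · exact Or.inr (Or.inr rfl)

local notation "gU" => (FreeGroup.of 0 : FreeGroup (Fin 3))
local notation "gH" => (FreeGroup.of 1 : FreeGroup (Fin 3))
local notation "gT" => (FreeGroup.of 2 : FreeGroup (Fin 3))

/-- Characteristic two: five relations, and `PSL₂ = SL₂`. -/
theorem exists_five [CharP F 2] (M : Type*) [Group M] [Finite M] (π : SL →* M)
    (hπ : Function.Surjective π)
    (hcard : Nat.card M = Fintype.card F * (Fintype.card F - 1) * (Fintype.card F + 1)) :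
    ∃ rels : Finset (FreeGroup (Fin 3)), rels.card ≤ 5 ∧
      Nonempty (PresentedGroup (↑rels : Set (FreeGroup (Fin 3))) ≃* M) := by
  classical
  letI : Algebra (ZMod 2) F := ZMod.algebra F 2
  haveI : Fact (Nat.Prime 2) := ⟨Nat.prime_two⟩
  set q := Fintype.card F with hq
  have hqe : Even q := by
    obtain ⟨e, -, he⟩ := FiniteField.card F 2
    rw [hq, he]
    exact (Nat.even_pow).2 ⟨even_two, e.ne_zero⟩
  obtain ⟨j, hj⟩ : ∃ j, q = 2 * j := hqe.two_dvd
  have hq2 : 2 ≤ q := Fintype.one_lt_card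
  obtain ⟨ω, hωg⟩ := IsCyclic.exists_generator (α := Fˣ)
  have hω : ∀ x : Fˣ, ∃ k : ℕ, ω ^ k = x := fun x =>
    mem_powers_iff_mem_zpowers.2 (hωg x)
  have hωq : (ω : F) ^ (q - 1) = 1 := FiniteField.pow_card_sub_one_eq_one _ ω.ne_zero
  have hωj : ((ω : F) ^ 2) ^ j = ω := by
    rw [← pow_mul, ← hj, ← Nat.sub_add_cancel (show 1 ≤ q by omega), pow_succ, hωq, one_mul]
  set α : F := (ω : F) ^ 2 with hα
  have hsurj : Function.Surjective (aeval α : (ZMod 2)[X] → F) := by
    intro x
    rcases eq_or_ne x 0 with rfl | hx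
    · exact ⟨0, map_zero _⟩
    · obtain ⟨k, hk⟩ := hω (Units.mk0 x hx)
      refine ⟨X ^ (j * k), ?_⟩
      rw [map_pow, aeval_X, pow_mul, hωj, ← Units.val_pow_eq_pow_val, hk, Units.val_mk0]
  obtain ⟨l, hl⟩ : ∃ l : ℕ, 1 + α ≠ 0 → α ^ l = 1 + α := by
    by_cases h : 1 + α = 0
    · exact ⟨0, fun h' => absurd h h'⟩
    · obtain ⟨k, hk⟩ := hω (Units.mk0 _ h)
      exact ⟨j * k, fun _ => by rw [pow_mul, hωj, ← Units.val_pow_eq_pow_val, hk, Units.val_mk0]⟩
  let rb : FreeGroup (Fin 3) := if 1 + α = 0 then gU ^ 2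
    else gH ^ l * gU * (gH ^ l)⁻¹ * (gU * (gH * gU * gH⁻¹))⁻¹
  let X' : FreeGroup (Fin 3) := (gH ^ j)⁻¹ * gU * gH ^ j
  let Y' : FreeGroup (Fin 3) := gH ^ j * gU * (gH ^ j)⁻¹
  let rels : Finset (FreeGroup (Fin 3)) :=
    [gU ^ 2, gT * gU * gT⁻¹ * (gU * gT * gU)⁻¹, rb, polyWord gU gH (minpoly (ZMod 2) α),
      gT * gH * (X' * (gT * Y' * gT⁻¹) * X')⁻¹].toFinset
  refine ⟨rels, (List.toFinset_card_le _).trans (le_of_eq rfl), ?_⟩
  refine presented_equiv ![π (matU 1), π (matD ω), π matT] ?_ ?_ ?_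
  · -- the relations hold in the matrix group
    have hlift : ∀ r, FreeGroup.lift ![π (matU 1), π (matD ω), π matT] r =
        π (FreeGroup.lift ![matU 1, matD ω, matT] r) := fun r => by
      have : FreeGroup.lift ![π (matU 1), π (matD ω), π matT] =
          π.comp (FreeGroup.lift ![matU 1, matD ω, matT]) :=
        FreeGroup.ext_hom _ _ fun i => by fin_cases i <;> simp
      rw [this]; rfl
    intro r hr
    rw [hlift]
    suffices FreeGroup.lift ![matU 1, matD ω, matT] r = 1 by rw [this, map_one]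
    have h20 : (1 : F) + 1 = 0 := CharTwo.add_self_eq_zero 1
    simp only [rels, List.coe_toFinset, List.mem_cons, List.not_mem_nil, or_false] at hr
    rcases hr with rfl | rfl | rfl | rfl | rfl
    · simp [pow_two, ← matU_add, h20, matU_zero]
    · simp only [map_mul, map_inv, FreeGroup.lift_apply_of, Matrix.cons_val_zero, Matrix.cons_val_two,
        Matrix.tail_cons, Matrix.head_cons]
      rw [mul_inv_eq_one]
      have h := matT_conj_matU (1 : Fˣ)
      simpa [matD_one, CharTwo.neg_eq] using h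
    · simp only [rb]
      split_ifs with hif
      · simp [pow_two, ← matU_add, h20, matU_zero]
      · simp only [map_mul, map_inv, map_pow, FreeGroup.lift_apply_of, Matrix.cons_val_zero,
          Matrix.cons_val_one]
        rw [mul_inv_eq_one, matD_pow, matD_conj, matD_conj, ← matU_add, Units.val_pow_eq_pow_val,
          ← pow_mul, mul_comm l 2, pow_mul, ← hα, hl hif]
        congr 1
        ring
    · rw [map_polyWord]
      simp only [FreeGroup.lift_apply_of, Matrix.cons_val_zero, Matrix.cons_val_one]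
      rw [polyWord_eq α homU (u := matU 1) (a := matD ω) rfl (fun r => by
        rw [homU_ofAdd, homU_ofAdd, matD_conj]), minpoly.aeval, ofAdd_zero, map_one]
    · simp only [X', Y', map_mul, map_inv, map_pow, FreeGroup.lift_apply_of, Matrix.cons_val_zero,
        Matrix.cons_val_one, Matrix.cons_val_two, Matrix.tail_cons, Matrix.head_cons]
      have e1 : ((ω ^ j : Fˣ) : F) ^ 2 = (ω : F) := by
        rw [Units.val_pow_eq_pow_val, ← pow_mul, mul_comm, pow_mul]; exact hωj
      have e2 : (((ω ^ j)⁻¹ : Fˣ) : F) ^ 2 = (ω : F)⁻¹ := by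
        rw [Units.val_inv_eq_inv_val, inv_pow, e1]
      rw [mul_inv_eq_one, matD_pow, matD_inv_conj, matD_conj, e1, e2, mul_one, mul_one,
        matT_conj_matU ω]
      refine Subtype.ext ?_
      simp only [Matrix.SpecialLinearGroup.coe_mul]
      simp [matT, matD, matU, CharTwo.neg_eq, Units.val_inv_eq_inv_val, h20, CharTwo.add_self_eq_zero]
  · have h := closure_eq_top (F := F) hω (p := 2) 1 (by rw [pow_one]; exact hsurj)
    have := congrArg (Subgroup.map π) h
    rw [MonoidHom.map_closure, Subgroup.map_top_of_surjective π hπ] at this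
    simpa [Set.image_insert_eq] using this
  · -- the presented group is small
    set G := PresentedGroup (↑rels : Set (FreeGroup (Fin 3)))
    set u : G := PresentedGroup.of 0 with hu
    set h : G := PresentedGroup.of 1 with hh
    set t : G := PresentedGroup.of 2 with ht
    have hr : ∀ r ∈ rels, PresentedGroup.mk (↑rels : Set (FreeGroup (Fin 3))) r = 1 := fun r hr =>
      PresentedGroup.one_of_mem hr
    have hrel : ∀ a b, a * b⁻¹ ∈ rels → PresentedGroup.mk (↑rels : Set (FreeGroup (Fin 3))) a =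
        PresentedGroup.mk (↑rels : Set (FreeGroup (Fin 3))) b := fun a b hab =>
      mul_inv_eq_one.1 (by rw [← map_inv, ← map_mul]; exact hr _ hab)
    have hu2 : u ^ 2 = 1 := by
      have h0 := hr (gU ^ 2) (by simp [rels])
      simp only [map_pow, mk_of] at h0
      exact h0
    have hbraid : t * u * t⁻¹ = u * t * u := by
      have h0 := hrel (gT * gU * gT⁻¹) (gU * gT * gU) (by simp [rels])
      simp only [map_mul, map_inv, mk_of] at h0
      exact h0
    have hmin : polyWord u h (minpoly (ZMod 2) α) = 1 := by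
      have := hr (polyWord gU gH (minpoly (ZMod 2) α)) (by simp [rels])
      rwa [map_polyWord, mk_of, mk_of] at this
    have huu : u * u = 1 := by rw [← pow_two, hu2]
    have hu' : u⁻¹ = u := inv_eq_of_mul_eq_one_right huu
    have ht2 : t * t = 1 := by
      have e : t = u * (t * u * t⁻¹) * u := by
        rw [hbraid]
        calc t = u * u * t * (u * u) := by rw [huu, one_mul, mul_one]
          _ = _ := by group
      calc t * t = u * (t * u * t⁻¹) * u * (u * (t * u * t⁻¹) * u) := congrArg₂ (· * ·) e e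
        _ = u * (t * u * t⁻¹) * (u * u) * (t * u * t⁻¹) * u := by group
        _ = u * ((t * u * t⁻¹) * (t * u * t⁻¹)) * u := by rw [huu]; group
        _ = u * (t * (u * u) * t⁻¹) * u := by group
        _ = 1 := by rw [huu]; simp [huu]
    have ht' : t⁻¹ = t := inv_eq_of_mul_eq_one_right ht2
    set x := (h ^ j)⁻¹ * u * h ^ j with hxd
    set y := h ^ j * u * (h ^ j)⁻¹ with hyd
    have hth5 : t * h = x * (t * y * t⁻¹) * x := by
      have h0 := hrel (gT * gH) (X' * (gT * Y' * gT⁻¹) * X') (by simp [rels])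
      simp only [X', Y', map_mul, map_inv, map_pow, mk_of] at h0
      exact h0
    have hx2 : x * x = 1 := by
      calc x * x = (h ^ j)⁻¹ * (u * u) * h ^ j := by rw [hxd]; group
        _ = 1 := by rw [huu]; group
    have hy2 : y * y = 1 := by
      calc y * y = h ^ j * (u * u) * (h ^ j)⁻¹ := by rw [hyd]; group
        _ = 1 := by rw [huu]; group
    have hth : t * h * t⁻¹ = h⁻¹ := by
      refine eq_inv_of_mul_eq_one_left ?_
      have : t * h * (t * h) = 1 := by
        rw [hth5]
        calc x * (t * y * t⁻¹) * x * (x * (t * y * t⁻¹) * x)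
            = x * (t * y * t⁻¹) * (x * x) * (t * y * t⁻¹) * x := by group
          _ = x * (t * (y * y) * t⁻¹) * x := by rw [hx2]; group
          _ = 1 := by rw [hy2]; simp [hx2]
      rw [ht']
      calc t * h * t * h = t * h * (t * h) := by group
        _ = 1 := this
    have hhq : h ^ (q - 1) = 1 := by
      have hconj : ∀ i : ℕ, t * h ^ i = (h ^ i)⁻¹ * t := fun i => by
        rw [← mul_inv_eq_iff_eq_mul, ← conj_pow, hth, inv_pow]
      have hc : (h ^ j)⁻¹ * t * h ^ j = t * h ^ (2 * j) := by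
        rw [← hconj, mul_assoc, ← pow_add, two_mul]
      have hb : t = u * (t * u * t) * u := by
        conv_rhs => rw [show t * u * t = t * u * t⁻¹ by rw [ht'], hbraid]
        calc t = u * u * t * (u * u) := by rw [huu, one_mul, mul_one]
          _ = _ := by group
      have hm : (h ^ j)⁻¹ * (t * u * t) * h ^ j = t * y * t := by
        have e : t * h ^ j * t = (h ^ j)⁻¹ := by rw [hconj, mul_assoc, ht2, mul_one]
        calc (h ^ j)⁻¹ * (t * u * t) * h ^ j = (t * h ^ j * t) * (t * u * t) * h ^ j := by rw [e]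
          _ = t * h ^ j * (t * t) * u * (t * h ^ j) := by group
          _ = t * h ^ j * (t * t) * u * ((h ^ j)⁻¹ * t) := congrArg (t * h ^ j * (t * t) * u * ·) (hconj j)
          _ = t * (h ^ j * u * (h ^ j)⁻¹) * t := by rw [ht2]; group
      have key : t * h ^ (2 * j) = t * h := by
        rw [← hc]
        conv_lhs => rw [hb]
        calc (h ^ j)⁻¹ * (u * (t * u * t) * u) * h ^ j
            = ((h ^ j)⁻¹ * u * h ^ j) * ((h ^ j)⁻¹ * (t * u * t) * h ^ j) * ((h ^ j)⁻¹ * u * h ^ j) := by
              group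
          _ = x * (t * y * t⁻¹) * x := by rw [hm, ht']
          _ = t * h := hth5.symm
      have := mul_left_cancel key
      rw [← hj, ← Nat.sub_add_cancel (show 1 ≤ q by omega), pow_succ] at this
      exact mul_eq_right.1 this
    have hcomm : ∀ n : ℕ, Commute u (h ^ n * u * (h ^ n)⁻¹) := by
      by_cases hif : 1 + α = 0
      · have hα1 : α = 1 := by
          have := eq_neg_of_add_eq_zero_right hif
          rwa [CharTwo.neg_eq] at this
        refine commute_conj_pow_of_relation (minpoly.monic (Algebra.IsIntegral.isIntegral α)) hmin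
          fun i hi => ?_
        rw [hα1, minpoly.one, ← C_1, natDegree_X_sub_C] at hi
        obtain rfl : i = 0 := by omega
        simp
      · have hb : h ^ l * u * (h ^ l)⁻¹ = u * (h * u * h⁻¹) := by
          have h0 := hr rb (by simp [rels])
          simp only [rb, if_neg hif, map_mul, map_inv, map_pow, mk_of, mul_inv_eq_one] at h0
          exact h0
        refine commute_conj_pow_of_step (Commute.pow_self h l) ?_ hb
        have h4 : (u * (h * u * h⁻¹)) * (u * (h * u * h⁻¹)) = 1 := by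
          rw [← hb]
          calc h ^ l * u * (h ^ l)⁻¹ * (h ^ l * u * (h ^ l)⁻¹) = h ^ l * (u * u) * (h ^ l)⁻¹ := by group
            _ = 1 := by rw [huu]; group
        have h5 : (h * u * h⁻¹)⁻¹ = h * u * h⁻¹ := by
          rw [_root_.mul_inv_rev, _root_.mul_inv_rev, inv_inv, hu', ← mul_assoc]
        show u * (h * u * h⁻¹) = h * u * h⁻¹ * u
        rw [eq_inv_of_mul_eq_one_left h4, _root_.mul_inv_rev, h5, hu']
    obtain ⟨f, hf1, hfw, hfh⟩ := exists_hom_field α α hsurj hu2 hcomm hmin (Commute.refl h)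
      (aeval_X α) (by rw [polyWord_X])
    have hst := steinberg_of_two f ω hω hfh hth (m := q - 1)
      ⟨j - 1, by omega⟩
      ⟨1, 1, 0, by rw [hf1, zpow_zero, mul_one, hbraid]⟩
      ⟨1, 1, 0, by rw [hωq, hf1, zpow_zero, mul_one, hbraid]⟩
    obtain ⟨hfin, hle⟩ := finite_and_card_le f α (pow_ne_zero 2 ω.ne_zero) (by omega : 0 < q - 1) hhq hfh hth
      ⟨0, by rw [zpow_zero, ht2]⟩ (gen_range f hf1) hst
    refine ⟨hfin, hle.trans (le_of_eq ?_)⟩
    rw [hcard, Nat.card_eq_fintype_card (α := F)]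

/-- Odd characteristic: nine relations for a quotient `M` of `SL₂` in which `-1` has the prescribed
image. -/
theorem exists_nine_sl {p : ℕ} [Fact p.Prime] [Algebra (ZMod p) F] (hp2 : p ≠ 2) :
    (∃ rels : Finset (FreeGroup (Fin 3)), rels.card ≤ 9 ∧
      Nonempty (PresentedGroup (↑rels : Set (FreeGroup (Fin 3))) ≃* SL)) ∧
    (∃ rels : Finset (FreeGroup (Fin 3)), rels.card ≤ 9 ∧
      Nonempty (PresentedGroup (↑rels : Set (FreeGroup (Fin 3))) ≃*
        Matrix.ProjectiveSpecialLinearGroup (Fin 2) F)) := by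
  classical
  haveI : CharP F p := charP_of_injective_algebraMap (algebraMap (ZMod p) F).injective p
  obtain ⟨e, -, he⟩ := FiniteField.card F p
  set q := Fintype.card F with hq
  have hodd : Odd q := by
    rw [he]; exact ((Fact.out : p.Prime).odd_of_ne_two hp2).pow
  obtain ⟨n, hn⟩ : ∃ n, q = 2 * n + 1 := hodd
  have hn0 : 0 < n := by
    have : 2 ≤ q := Fintype.one_lt_card
    omega
  obtain ⟨ω, hωg⟩ := IsCyclic.exists_generator (α := Fˣ)
  have hω : ∀ x : Fˣ, ∃ k : ℕ, ω ^ k = x := fun x => mem_powers_iff_mem_zpowers.2 (hωg x)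
  have hωq : (ω : F) ^ (2 * n) = 1 := by
    have := FiniteField.pow_card_sub_one_eq_one (ω : F) ω.ne_zero
    rwa [← hq, show q - 1 = 2 * n by omega] at this
  have hord : orderOf ω = 2 * n := by
    rw [orderOf_eq_card_of_forall_mem_zpowers hωg, Nat.card_units, Nat.card_eq_fintype_card, ← hq]
    omega
  have hωn : (ω : F) ^ n = -1 := by
    have h2 : ((ω : F) ^ n) ^ 2 = 1 ^ 2 := by rw [← pow_mul, mul_comm, hωq, one_pow]
    rcases sq_eq_sq_iff_eq_or_eq_neg.1 h2 with h | h
    · exfalso
      have h1 : ω ^ n = 1 := Units.ext (by rw [Units.val_pow_eq_pow_val, h, Units.val_one])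
      have := Nat.le_of_dvd hn0 (hord ▸ orderOf_dvd_of_pow_eq_one h1)
      omega
    · exact h
  -- the torus element and the step
  obtain ⟨k, hsurj, hstep⟩ : ∃ k : ℕ,
      Function.Surjective (aeval (((ω : F) ^ 2) ^ k) : (ZMod p)[X] → F) ∧
      ((minpoly (ZMod p) (((ω : F) ^ 2) ^ k)).natDegree ≤ 2 ∨
        ∃ l : ℕ, ((ω : F) ^ 2) ^ l = 1 + ((ω : F) ^ 2) ^ k) := by
    rcases le_or_gt 3 (e : ℕ) with he3 | he3
    · obtain ⟨x, y, hx, hy, hxy, hs⟩ := exists_square_step (p := p) hp2 he he3
      obtain ⟨k, hk⟩ := hω (Units.mk0 x hx)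
      obtain ⟨l, hl⟩ := hω (Units.mk0 y hy)
      have ek : ((ω : F) ^ 2) ^ k = x ^ 2 := by
        rw [← pow_mul, mul_comm, pow_mul, ← Units.val_pow_eq_pow_val, hk, Units.val_mk0]
      have el : ((ω : F) ^ 2) ^ l = y ^ 2 := by
        rw [← pow_mul, mul_comm, pow_mul, ← Units.val_pow_eq_pow_val, hl, Units.val_mk0]
      exact ⟨k, ek ▸ hs, Or.inr ⟨l, by rw [ek, el, hxy]⟩⟩
    · refine ⟨1, ?_, Or.inl ?_⟩
      · rw [pow_one]
        refine surjective_aeval_of_finrank _ he fun d hd1 hd2 hc => ?_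
        have hd : d = 1 ∧ (e : ℕ) = 2 := by omega
        obtain ⟨rfl, he2⟩ := hd
        have hp3 : 2 ≤ p := (Fact.out : p.Prime).two_le
        rw [pow_one] at hc
        have h1 : (ω ^ (2 * (p - 1))) = 1 := Units.ext (by
          rw [Units.val_pow_eq_pow_val, Units.val_one]
          refine mul_right_cancel₀ (pow_ne_zero 2 ω.ne_zero) ?_
          rw [one_mul, pow_mul, ← pow_succ, Nat.sub_add_cancel (by omega), hc])
        have := Nat.le_of_dvd (by omega) (hord ▸ orderOf_dvd_of_pow_eq_one h1)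
        have hqp : q = p ^ 2 := by rw [he, he2]
        obtain ⟨p', rfl⟩ : ∃ p', p = p' + 2 := ⟨p - 2, by omega⟩
        rw [show p' + 2 - 1 = p' + 1 by omega] at this
        nlinarith
      · refine (minpoly.natDegree_le _).trans ?_
        have : Module.finrank (ZMod p) F = (e : ℕ) := by
          refine Nat.pow_right_injective (Fact.out : p.Prime).two_le ?_
          show p ^ Module.finrank (ZMod p) F = p ^ (e : ℕ)
          rw [← he, hq, Module.card_eq_pow_finrank (K := ZMod p) (V := F), ZMod.card]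
        omega
  set α : F := ((ω : F) ^ 2) ^ k with hα
  obtain ⟨Pg, hPg⟩ := hsurj ((ω : F) ^ 2)
  obtain ⟨Pz, hPz⟩ := hsurj (ω : F)
  obtain ⟨Pi, hPi⟩ := hsurj (-(ω : F)⁻¹)
  let A : FreeGroup (Fin 3) := gH ^ k
  let rb : FreeGroup (Fin 3) := if h : ∃ l : ℕ, ((ω : F) ^ 2) ^ l = 1 + α then
    gH ^ h.choose * gU * (gH ^ h.choose)⁻¹ * (gU * (A * gU * A⁻¹))⁻¹ else gU ^ p
  let rz : FreeGroup (Fin 3) := gT * polyWord gU A Pz * gT⁻¹ *
    (polyWord gU A Pi * gH ^ (2 * n - 1) * gT * polyWord gU A Pi)⁻¹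
  let base : List (FreeGroup (Fin 3)) :=
    [gU ^ p, gU * (A * gU * A⁻¹) * gU⁻¹ * (A * gU * A⁻¹)⁻¹, rb,
      polyWord gU A (minpoly (ZMod p) α), gH * gU * gH⁻¹ * (polyWord gU A Pg)⁻¹,
      gT * gH * gT⁻¹ * gH, gT * gU * gT⁻¹ * (gU⁻¹ * gT * gU⁻¹)⁻¹]
  -- the matrices satisfy the common relations
  let L : FreeGroup (Fin 3) →* SL := FreeGroup.lift ![matU 1, matD ω, matT]
  have hL0 : L gU = matU 1 := by simp [L]
  have hL1 : L gH = matD ω := by simp [L]
  have hL2 : L gT = matT := by simp [L]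
  have hLA : ∀ x, L A * matU x * (L A)⁻¹ = matU (α * x) := fun x => by
    rw [map_pow, hL1, matD_pow, matD_conj, Units.val_pow_eq_pow_val, hα]
    congr 1; ring
  have hLw : ∀ P : (ZMod p)[X], L (polyWord gU A P) = matU (aeval α P) := fun P => by
    rw [map_polyWord, hL0]
    exact polyWord_eq (p := p) α homU (u := matU 1) (a := L A) rfl (fun r => (hLA r).symm) P
  have hinvU : ∀ x : F, (matU x)⁻¹ = matU (-x) := fun x =>
    inv_eq_of_mul_eq_one_right (by rw [← matU_add, add_neg_cancel, matU_zero])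
  have hLbase : ∀ r ∈ base, L r = 1 := by
    intro r hr
    simp only [base, List.mem_cons, List.not_mem_nil, or_false] at hr
    rcases hr with rfl | rfl | rfl | rfl | rfl | rfl | rfl
    · rw [map_pow, hL0, ← homU_ofAdd, ← map_pow, ← ofAdd_nsmul, nsmul_one, CharP.cast_eq_zero,
        ofAdd_zero, map_one]
    · simp only [map_mul, map_inv, hL0, hLA]
      rw [mul_inv_eq_one, mul_inv_eq_iff_eq_mul, ← matU_add, ← matU_add, add_comm]
    · simp only [rb]
      split_ifs with h
      · simp only [map_mul, map_inv, map_pow, hL0, hLA, hL1]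
        rw [mul_inv_eq_one, matD_pow, matD_conj, ← matU_add, Units.val_pow_eq_pow_val, ← pow_mul,
          mul_comm h.choose 2, pow_mul, h.choose_spec]
        congr 1; ring
      · rw [map_pow, hL0, ← homU_ofAdd, ← map_pow, ← ofAdd_nsmul, nsmul_one, CharP.cast_eq_zero,
          ofAdd_zero, map_one]
    · rw [hLw, minpoly.aeval, matU_zero]
    · simp only [map_mul, map_inv, hL0, hL1, hLw]
      rw [mul_inv_eq_one, matD_conj, hPg, mul_one]
    · simp only [map_mul, map_inv, hL1, hL2, matT_conj_matD, inv_mul_cancel]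
    · simp only [map_mul, map_inv, hL0, hL2]
      rw [mul_inv_eq_one, hinvU]
      have h := matT_conj_matU (1 : Fˣ)
      simpa [matD_one] using h
  have hLz : L rz = 1 := by
    have hi : ω ^ (2 * n - 1) = ω⁻¹ := by
      refine eq_inv_of_mul_eq_one_left ?_
      rw [← pow_succ, show 2 * n - 1 + 1 = 2 * n by omega, ← hord, pow_orderOf_eq_one]
    simp only [rz, map_mul, map_inv, map_pow, hL1, hL2, hLw, hPz, hPi]
    rw [mul_inv_eq_one, matD_pow, hi, matT_conj_matU]
  have hωn' : ω ^ n = -1 := Units.ext (by rw [Units.val_pow_eq_pow_val, hωn, Units.val_neg, Units.val_one])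
  have hLsq : L (gT * gT * (gH ^ n)⁻¹) = 1 := by
    simp only [map_mul, map_inv, map_pow, hL1, hL2]
    rw [mul_inv_eq_one, matT_sq, matD_pow, hωn']
  have hgenSL := closure_eq_top (F := F) hω (p := p) k hsurj
  -- consequences inside any presented group with the common relations
  have hG : ∀ rels : Finset (FreeGroup (Fin 3)), (∀ r ∈ base, r ∈ rels) →
      let G := PresentedGroup (↑rels : Set (FreeGroup (Fin 3)))
      let π := PresentedGroup.mk (↑rels : Set (FreeGroup (Fin 3)))
      ∃ f : Multiplicative F →* G, f (.ofAdd 1) = π gU ∧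
        (∀ P : (ZMod p)[X], π (polyWord gU A P) = f (.ofAdd (aeval α P))) ∧
        (∀ x, π gH * f (.ofAdd x) * (π gH)⁻¹ = f (.ofAdd ((ω : F) ^ 2 * x))) ∧
        π gT * π gH * (π gT)⁻¹ = (π gH)⁻¹ ∧
        π gT * π gU * (π gT)⁻¹ = (π gU)⁻¹ * π gT * (π gU)⁻¹ := by
    intro rels hrels G π
    have hr : ∀ r ∈ base, π r = 1 := fun r hr => PresentedGroup.one_of_mem (hrels r hr)
    have hup : π gU ^ p = 1 := by simpa using hr (gU ^ p) (by simp [base])
    have h11 : Commute (π gU) (π A * π gU * (π A)⁻¹) := by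
      have := hr (gU * (A * gU * A⁻¹) * gU⁻¹ * (A * gU * A⁻¹)⁻¹) (by simp [base])
      simp only [map_mul, map_inv, mul_inv_eq_one] at this
      exact mul_inv_eq_iff_eq_mul.1 this
    have hmin : polyWord (π gU) (π A) (minpoly (ZMod p) α) = 1 := by
      rw [← map_polyWord]; exact hr _ (by simp [base])
    have hcomm : ∀ i : ℕ, Commute (π gU) (π A ^ i * π gU * (π A ^ i)⁻¹) := by
      by_cases h : ∃ l : ℕ, ((ω : F) ^ 2) ^ l = 1 + α
      · refine commute_conj_pow_of_step (b := π (gH ^ h.choose)) ?_ h11 ?_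
        · exact (Commute.pow_pow_self gH h.choose k).map π
        · have := hr rb (by simp [base])
          simp only [rb, dif_pos h, map_mul, map_inv, mul_inv_eq_one] at this
          exact this
      · refine commute_conj_pow_of_relation (minpoly.monic (Algebra.IsIntegral.isIntegral α)) hmin
          fun i hi => ?_
        have := hstep.resolve_right h
        obtain rfl | rfl : i = 0 ∨ i = 1 := by omega
        · simp
        · simpa using h11
    obtain ⟨f, hf1, hfw, hfh⟩ := exists_hom_field α ((ω : F) ^ 2) hsurj hup hcomm hmin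
      ((Commute.self_pow gH k).map π) hPg (by
        have := hr (gH * gU * gH⁻¹ * (polyWord gU A Pg)⁻¹) (by simp [base])
        simp only [map_mul, map_inv, mul_inv_eq_one, map_polyWord] at this
        exact this)
    refine ⟨f, hf1, fun P => by rw [map_polyWord, hfw], hfh, ?_, ?_⟩
    · refine eq_inv_of_mul_eq_one_left ?_
      simpa using hr (gT * gH * gT⁻¹ * gH) (by simp [base])
    · refine mul_inv_eq_one.1 ?_
      simpa using hr (gT * gU * gT⁻¹ * (gU⁻¹ * gT * gU⁻¹)⁻¹) (by simp [base])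
  constructor
  · -- `SL₂`
    let rels : Finset (FreeGroup (Fin 3)) := (base ++ [gT * gT * (gH ^ n)⁻¹, rz]).toFinset
    refine ⟨rels, (List.toFinset_card_le _).trans (le_of_eq rfl), ?_⟩
    refine presented_equiv ![matU 1, matD ω, matT] ?_ (by simpa using hgenSL) ?_
    · intro r hr
      simp only [rels, List.coe_toFinset, List.mem_append, List.mem_cons, List.not_mem_nil, or_false] at hr
      rcases hr with hr | rfl | rfl
      · exact hLbase r hr
      · exact hLsq
      · exact hLz
    obtain ⟨f, hf1, hfw, hfh, hth, hs1⟩ := hG rels fun r hr => by simp [rels, hr]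
    set π := PresentedGroup.mk (↑rels : Set (FreeGroup (Fin 3))) with hπ
    have hr : ∀ r ∈ rels, π r = 1 := fun r hr => PresentedGroup.one_of_mem hr
    have ht2 : π gT * π gT = π gH ^ n :=
      mul_inv_eq_one.1 (by simpa using hr (gT * gT * (gH ^ n)⁻¹) (by simp [rels]))
    have hhn : π gH ^ (2 * n) = 1 := by
      have h1 : π gT * π gH ^ n * (π gT)⁻¹ = (π gH ^ n)⁻¹ := by rw [← conj_pow, hth, inv_pow]
      have h2 : π gT * π gH ^ n * (π gT)⁻¹ = π gH ^ n := by rw [← ht2]; group
      rw [two_mul, pow_add]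
      nth_rewrite 1 [← h2]
      rw [h1, inv_mul_cancel]
    have hz : π gT * f (.ofAdd (ω : F)) * (π gT)⁻¹ =
        f (.ofAdd (-(ω : F)⁻¹)) * π gH ^ ((2 * n - 1 : ℕ) : ℤ) * π gT * f (.ofAdd (-(ω : F)⁻¹)) := by
      have := hr rz (by simp [rels])
      simp only [rz, map_mul, map_inv, map_pow, mul_inv_eq_one, hfw, hPz, hPi] at this
      rw [zpow_natCast]; exact this
    have hst := steinberg_of_two f ω hω hfh hth (m := 1) odd_one
      ⟨-1, -1, 0, by rw [hf1, ofAdd_neg, map_inv, hf1, hs1, zpow_zero, mul_one]⟩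
      ⟨_, _, _, by rw [pow_one]; exact hz⟩
    obtain ⟨hfin, hle⟩ := finite_and_card_le f _ (pow_ne_zero 2 ω.ne_zero) (by omega : 0 < 2 * n)
      hhn hfh hth ⟨n, by rw [zpow_natCast]; exact ht2⟩ (gen_range f hf1) hst
    refine ⟨hfin, hle.trans (le_of_eq ?_)⟩
    rw [Linear.card_SL_two, Nat.card_eq_fintype_card (α := F), ← hq, show q - 1 = 2 * n by omega]
  · -- `PSL₂`
    let rz' : FreeGroup (Fin 3) := if Odd n then gH ^ n else rz
    let rels : Finset (FreeGroup (Fin 3)) := (base ++ [gT * gT, rz']).toFinset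
    refine ⟨rels, (List.toFinset_card_le _).trans (le_of_eq rfl), ?_⟩
    set mk := QuotientGroup.mk' (Subgroup.center SL) with hmk
    have hmks : Function.Surjective mk := QuotientGroup.mk'_surjective _
    refine presented_equiv (M := Matrix.ProjectiveSpecialLinearGroup (Fin 2) F)
      ![mk (matU 1), mk (matD ω), mk matT] ?_ ?_ ?_
    · intro r hr
      have e : FreeGroup.lift ![mk (matU 1), mk (matD ω), mk matT] r = mk (L r) := by
        have : FreeGroup.lift ![mk (matU 1), mk (matD ω), mk matT] = mk.comp L :=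
          FreeGroup.ext_hom _ _ fun i => by fin_cases i <;> simp [L]
        rw [this]; rfl
      rw [e]
      have hz1 : mk (matD (-1 : Fˣ)) = 1 := by
        refine (QuotientGroup.eq_one_iff _).2 (Matrix.SpecialLinearGroup.mem_center_iff.2 ⟨-1, by simp, ?_⟩)
        ext i j
        fin_cases i <;> fin_cases j <;> simp [matD, Matrix.scalar_apply]
      simp only [rels, List.coe_toFinset, List.mem_append, List.mem_cons, List.not_mem_nil, or_false] at hr
      rcases hr with hr | rfl | rfl
      · rw [hLbase r hr, map_one]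
      · rw [map_mul, hL2, matT_sq, hz1]
      · simp only [rz']
        split_ifs
        · rw [map_pow, hL1, matD_pow, hωn', hz1]
        · rw [hLz, map_one]
    · have := congrArg (Subgroup.map mk) hgenSL
      rw [MonoidHom.map_closure, Subgroup.map_top_of_surjective mk hmks] at this
      simpa [Set.image_insert_eq] using this
    obtain ⟨f, hf1, hfw, hfh, hth, hs1⟩ := hG rels fun r hr => by simp [rels, hr]
    set π := PresentedGroup.mk (↑rels : Set (FreeGroup (Fin 3))) with hπ
    have hr : ∀ r ∈ rels, π r = 1 := fun r hr => PresentedGroup.one_of_mem hr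
    have ht2 : π gT * π gT = 1 := by simpa using hr (gT * gT) (by simp [rels])
    have ht' : (π gT)⁻¹ = π gT := inv_eq_of_mul_eq_one_right ht2
    have hm1 : π gT * (π gU)⁻¹ * (π gT)⁻¹ = π gU * π gT * π gU := by
      calc π gT * (π gU)⁻¹ * (π gT)⁻¹ = (π gT * π gU * (π gT)⁻¹)⁻¹ := by group
        _ = π gU * (π gT)⁻¹ * π gU := by rw [hs1]; group
        _ = _ := by rw [ht']
    have hfm1 : f (.ofAdd (-1)) = (π gU)⁻¹ := by rw [ofAdd_neg, map_inv, hf1]
    obtain ⟨m, hm, hsm, hhn⟩ : ∃ m, Odd m ∧ (∃ (a b : F) (j : ℤ),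
        π gT * f (.ofAdd ((ω : F) ^ m)) * (π gT)⁻¹ = f (.ofAdd a) * π gH ^ j * π gT * f (.ofAdd b)) ∧
        π gH ^ n = 1 := by
      by_cases hno : Odd n
      · refine ⟨n, hno, ⟨1, 1, 0, ?_⟩, ?_⟩
        · rw [hωn, hfm1, hm1, zpow_zero, mul_one, hf1]
        · simpa [rz', hno] using hr rz' (by simp [rels])
      · refine ⟨1, odd_one, ⟨-(ω : F)⁻¹, -(ω : F)⁻¹, ((2 * n - 1 : ℕ) : ℤ), ?_⟩, ?_⟩
        · have := hr rz' (by simp [rels])
          simp only [rz', if_neg hno, rz, map_mul, map_inv, map_pow, mul_inv_eq_one, hfw, hPz, hPi] at this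
          rw [pow_one, zpow_natCast]; exact this
        · obtain ⟨i, hi⟩ := Nat.not_odd_iff_even.1 hno
          have hit : ∀ (d : ℕ) (x : F), π gH ^ d * f (.ofAdd x) * (π gH ^ d)⁻¹ =
              f (.ofAdd (((ω : F) ^ 2) ^ d * x)) := by
            intro d
            induction d with
            | zero => simp
            | succ d ih =>
              intro x
              rw [pow_succ ((ω : F) ^ 2), mul_assoc (((ω : F) ^ 2) ^ d), ← ih, ← hfh, pow_succ]
              group
          set P := π gH ^ i with hP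
          set T := π gT with hTd
          set U := π gU with hUd
          have hhu : P * U * P⁻¹ = U⁻¹ := by
            rw [← hf1, hit, mul_one, ← pow_mul, show 2 * i = n by omega, hωn, hfm1, hf1]
          have hhu' : P * U⁻¹ * P⁻¹ = U := by
            calc P * U⁻¹ * P⁻¹ = (P * U * P⁻¹)⁻¹ := by group
              _ = U := by rw [hhu, inv_inv]
          have hhu'' : P⁻¹ * U * P = U⁻¹ := by
            calc P⁻¹ * U * P = P⁻¹ * (P * U⁻¹ * P⁻¹) * P := by rw [hhu']
              _ = U⁻¹ := by group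
          have hconj : T * P * T⁻¹ = P⁻¹ := by rw [hP, ← conj_pow, hth, inv_pow]
          have hPT : P * T = T * P⁻¹ := by
            calc P * T = (T * P * T⁻¹)⁻¹ * T := by rw [hconj, inv_inv]
              _ = T * P⁻¹ := by group
          have hTP : T * P⁻¹ * T⁻¹ = P := by
            calc T * P⁻¹ * T⁻¹ = (T * P * T⁻¹)⁻¹ := by group
              _ = P := by rw [hconj, inv_inv]
          have e1 : P * (T * U * T⁻¹) * P⁻¹ = U * T * U := by
            calc P * (T * U * T⁻¹) * P⁻¹ = (T * P⁻¹ * T⁻¹) * (T * U * T⁻¹) * (T * P * T⁻¹) := by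
                  rw [hTP, hconj]
              _ = T * (P⁻¹ * U * P) * T⁻¹ := by group
              _ = _ := by rw [hhu'', hm1]
          have e2 : P * (T * U * T⁻¹) * P⁻¹ = U * (T * (P⁻¹ * P⁻¹)) * U := by
            calc P * (T * U * T⁻¹) * P⁻¹
                = (P * U⁻¹ * P⁻¹) * (P * T * P⁻¹) * (P * U⁻¹ * P⁻¹) := by rw [hs1]; group
              _ = _ := by rw [hhu', hPT]; group
          have e3 := mul_left_cancel (mul_right_cancel (e1.symm.trans e2))
          rw [left_eq_mul, ← _root_.mul_inv_rev, inv_eq_one, hP, ← pow_add] at e3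
          rwa [← hi] at e3
    have hst := steinberg_of_two f ω hω hfh hth hm
      ⟨-1, -1, 0, by rw [hfm1, hf1, zpow_zero, mul_one, hs1]⟩ hsm
    obtain ⟨hfin, hle⟩ := finite_and_card_le f _ (pow_ne_zero 2 ω.ne_zero) hn0
      hhn hfh hth ⟨0, by rw [zpow_zero]; exact ht2⟩ (gen_range f hf1) hst
    refine ⟨hfin, hle.trans (le_of_eq ?_)⟩
    have hc := Linear.two_mul_card_PSL_two_of_odd (F := F) ⟨n, by rw [← hq, hn]⟩
    rw [← hq, show q - 1 = 2 * n by omega] at hc
    rw [Nat.card_eq_fintype_card (α := F), ← hq]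
    nlinarith [hc]

end Cfsg.Agent.Lib.ShortPresSL2
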